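import Mathlib.AlgebraicTopology.AlternatingFaceMapComplex
import Mathlib.Algebra.Homology.Homotopy
import Mathlib.Algebra.Homology.Single

/-!
An extra codegeneracy on a coaugmented cosimplicial object gives a homotopy equivalence.
-/

set_option autoImplicit false

universe v u

open CategoryTheory CategoryTheory.Limits Simplicial AlgebraicTopology

namespace Groth.Agent.CechTriv

variable {A : Type u} [Category.{v} A] [Preadditive A] [HasZeroObject A]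

theorem obj_d (K : CosimplicialObject A) (n : ℕ) :
    (AlternatingCofaceMapComplex.obj K).d n (n + 1) = ∑ i : Fin (n + 2), (-1 : ℤ) ^ (i : ℕ) • K.δ i :=
  CochainComplex.of_d (fun m => K.obj ⦋m⦌) (AlternatingCofaceMapComplex.objD K) n

theorem comm_zero (K : CosimplicialObject A) {A₀ : A} (ε : A₀ ⟶ K.obj ⦋0⦌) (t' : K.obj ⦋0⦌ ⟶ A₀)
    (t : K.obj ⦋0 + 1⦌ ⟶ K.obj ⦋0⦌) (h₁ : K.δ 1 ≫ t = t' ≫ ε) (h₀ : K.δ 0 ≫ t = 𝟙 _) :
    t' ≫ ε = (∑ i : Fin 2, (-1 : ℤ) ^ (i : ℕ) • K.δ i) ≫ (-t) + 0 + 𝟙 (K.obj ⦋0⦌) := by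
  simp [Fin.sum_univ_two, h₀, h₁, Preadditive.add_comp]

theorem comm_succ (K : CosimplicialObject A) (i : ℕ) (t : K.obj ⦋i + 1 + 1⦌ ⟶ K.obj ⦋i + 1⦌)
    (s : K.obj ⦋i + 1⦌ ⟶ K.obj ⦋i⦌) (h₀ : K.δ 0 ≫ t = 𝟙 _)
    (hs : ∀ j : Fin (i + 2), K.δ j.succ ≫ t = s ≫ K.δ j) :
    0 = (∑ j : Fin (i + 1 + 2), (-1 : ℤ) ^ (j : ℕ) • K.δ j) ≫ (-t) +
      (-s) ≫ (∑ j : Fin (i + 2), (-1 : ℤ) ^ (j : ℕ) • K.δ j) + 𝟙 (K.obj ⦋i + 1⦌) := by
  simp [Fin.sum_univ_succ (n := i + 2), h₀, Preadditive.sum_comp, Preadditive.comp_sum, hs, pow_succ,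
    Preadditive.add_comp, Preadditive.comp_add]

/-- extra codegeneracy gives a homotopy equivalence -/
noncomputable def homotopyEquivOfExtra (K : CosimplicialObject A) (A₀ : A) (ε : A₀ ⟶ K.obj ⦋0⦌)
    (t' : K.obj ⦋0⦌ ⟶ A₀) (t : ∀ n : ℕ, K.obj ⦋n + 1⦌ ⟶ K.obj ⦋n⦌)
    (w : ε ≫ K.δ 0 = ε ≫ K.δ 1) (h' : ε ≫ t' = 𝟙 A₀)
    (h₁ : K.δ 1 ≫ t 0 = t' ≫ ε) (h₀ : ∀ n : ℕ, K.δ 0 ≫ t n = 𝟙 _)
    (hs : ∀ (n : ℕ) (i : Fin (n + 2)), K.δ i.succ ≫ t (n + 1) = t n ≫ K.δ i) :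
    HomotopyEquiv ((CochainComplex.single₀ A).obj A₀) (AlternatingCofaceMapComplex.obj K) where
  hom := (CochainComplex.fromSingle₀Equiv _ _).symm ⟨ε, by
    rw [obj_d]
    show ε ≫ (∑ i : Fin 2, (-1 : ℤ) ^ (i : ℕ) • K.δ i) = (0 : A₀ ⟶ K.obj ⦋0 + 1⦌)
    simp [Fin.sum_univ_two, w, Preadditive.comp_add]⟩
  inv := (CochainComplex.toSingle₀Equiv _ _).symm (by exact t')
  homotopyHomInvId := Homotopy.ofEq (by
    ext
    simp [dsimp% CochainComplex.toSingle₀Equiv_symm_apply_f_zero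
      (C := AlternatingCofaceMapComplex.obj K)]
    exact h')
  homotopyInvHomId :=
    { hom := fun i j => if h : j + 1 = i then (by subst h; exact -(t j)) else 0
      zero := fun i j hij => dif_neg (fun h => hij h)
      comm := fun i => by
        cases i with
        | zero =>
          rw [Homotopy.dNext_cochainComplex, Homotopy.prevD_zero_cochainComplex, dif_pos rfl,
            HomologicalComplex.id_f, HomologicalComplex.comp_f]
          refine (congrArg₂ (fun (a : K.obj ⦋0⦌ ⟶ A₀) (b : A₀ ⟶ K.obj ⦋0⦌) => a ≫ b)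
            (CochainComplex.toSingle₀Equiv_symm_apply_f_zero (C := AlternatingCofaceMapComplex.obj K) t')
            (CochainComplex.fromSingle₀Equiv_symm_apply_f_zero (C := AlternatingCofaceMapComplex.obj K) ε _)).trans ?_
          exact (comm_zero K ε t' (t 0) h₁ (h₀ 0)).trans
            (congrArg (fun d : K.obj ⦋0⦌ ⟶ K.obj ⦋0 + 1⦌ => d ≫ (-(t 0)) + 0 + 𝟙 (K.obj ⦋0⦌)) (obj_d K 0).symm)
        | succ i =>
          rw [Homotopy.dNext_cochainComplex, Homotopy.prevD_succ_cochainComplex, dif_pos rfl, dif_pos rfl,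
            HomologicalComplex.id_f, HomologicalComplex.comp_f]
          refine ((congrArg (fun f => _ ≫ f) ((HomologicalComplex.isZero_single_obj_X (ComplexShape.up ℕ) 0 A₀ (i + 1)
            (Nat.succ_ne_zero i)).eq_of_src _ 0)).trans comp_zero).trans ?_
          exact (comm_succ K i (t (i + 1)) (t i) (h₀ (i + 1)) (hs i)).trans
            (congrArg₂ (fun (d : K.obj ⦋i + 1⦌ ⟶ K.obj ⦋i + 1 + 1⦌) (e : K.obj ⦋i⦌ ⟶ K.obj ⦋i + 1⦌) =>
              d ≫ (-(t (i + 1))) + (-(t i)) ≫ e + 𝟙 (K.obj ⦋i + 1⦌)) (obj_d K (i + 1)).symm (obj_d K i).symm) }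

end Groth.Agent.CechTriv
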